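import Groth.Prelude.Def_FlatCA
import Mathlib

/-! Weakly associated primes and associated primes: element criteria and localization. -/

set_option autoImplicit false

universe u v w

namespace Groth.Agent.WeakAss

variable {R : Type u} [CommRing R] {M : Type v} [AddCommGroup M] [Module R M]

theorem mem_minimalPrimes_iff_exists_mul_pow_mem {I p : Ideal R} [hp : p.IsPrime] :
    p ∈ I.minimalPrimes ↔ I ≤ p ∧ ∀ a ∈ p, ∃ s ∉ p, ∃ n : ℕ, s * a ^ n ∈ I := by
  constructor
  · intro h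
    refine ⟨h.1.2, fun a ha => ?_⟩
    by_contra hc
    push Not at hc
    have hd : Disjoint (I : Set R) (↑(p.primeCompl ⊔ Submonoid.powers a) : Set R) := by
      refine Set.disjoint_left.mpr fun x hx hx' => ?_
      obtain ⟨s, hs, t, ⟨n, rfl⟩, rfl⟩ := Submonoid.mem_sup.mp hx'
      exact hc s hs n hx
    obtain ⟨q, hq, hIq, hdisj⟩ := Ideal.exists_le_prime_disjoint I _ hd
    have hqp : q ≤ p := fun x hx => by
      by_contra hxp
      exact Set.disjoint_left.mp hdisj hx (Submonoid.mem_sup_left hxp)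
    exact Set.disjoint_left.mp hdisj (h.2 ⟨hq, hIq⟩ hqp ha)
      (Submonoid.mem_sup_right (Submonoid.mem_powers a))
  · rintro ⟨hI, h⟩
    refine ⟨⟨hp, hI⟩, fun q ⟨hq, hIq⟩ hqp a ha => ?_⟩
    obtain ⟨s, hs, n, hn⟩ := h a ha
    exact hq.mem_of_pow_mem n ((hq.mem_or_mem (hIq hn)).resolve_left fun h' => hs (hqp h'))

/-- `p` is minimal over the annihilator of `m`, in element form. -/
def IsWit (p : Ideal R) (m : M) : Prop :=
  (∀ r : R, r • m = 0 → r ∈ p) ∧ ∀ a ∈ p, ∃ s ∉ p, ∃ n : ℕ, (s * a ^ n) • m = 0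

theorem mem_weakAss_iff {p : Ideal R} :
    p ∈ FlatCA.weakAss R M ↔ p.IsPrime ∧ ∃ m : M, IsWit p m := by
  constructor
  · rintro ⟨m, hm⟩
    have : p.IsPrime := hm.1.1
    obtain ⟨h1, h2⟩ := mem_minimalPrimes_iff_exists_mul_pow_mem.mp hm
    refine ⟨this, m, fun r hr => h1 ((Submodule.mem_annihilator_span_singleton m r).mpr hr), fun a ha => ?_⟩
    obtain ⟨s, hs, n, hn⟩ := h2 a ha
    exact ⟨s, hs, n, (Submodule.mem_annihilator_span_singleton m _).mp hn⟩
  · rintro ⟨hp, m, h1, h2⟩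
    refine ⟨m, mem_minimalPrimes_iff_exists_mul_pow_mem.mpr
      ⟨fun r hr => h1 r ((Submodule.mem_annihilator_span_singleton m r).mp hr), fun a ha => ?_⟩⟩
    obtain ⟨s, hs, n, hn⟩ := h2 a ha
    exact ⟨s, hs, n, (Submodule.mem_annihilator_span_singleton m _).mpr hn⟩

theorem mem_ass_iff {p : Ideal R} :
    p ∈ FlatCA.ass R M ↔ p.IsPrime ∧ ∃ m : M, ∀ r : R, r ∈ p ↔ r • m = 0 := by
  refine and_congr Iff.rfl (exists_congr fun m => ?_)
  rw [SetLike.ext_iff]
  simp only [Submodule.mem_annihilator_span_singleton]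

theorem exists_mem_weakAss_of_smul_eq_zero {r : R} {x : M} (hx : x ≠ 0) (hr : r • x = 0) :
    ∃ p ∈ FlatCA.weakAss R M, r ∈ p := by
  have hne : (Submodule.span R {x}).annihilator ≠ ⊤ := fun h => hx <| by
    have h1 : (1 : R) • x = 0 :=
      (Submodule.mem_annihilator_span_singleton x 1).mp (h ▸ Submodule.mem_top)
    rwa [one_smul] at h1
  obtain ⟨p, hp⟩ := Ideal.nonempty_minimalPrimes hne
  exact ⟨p, ⟨x, hp⟩, hp.1.2 ((Submodule.mem_annihilator_span_singleton x r).mpr hr)⟩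

theorem exists_smul_eq_zero_of_mem {p : Ideal R} (hp : p ∈ FlatCA.weakAss R M) {f : R} (hf : f ∈ p) :
    ∃ y : M, y ≠ 0 ∧ f • y = 0 := by
  classical
  obtain ⟨hp', m, h1, h2⟩ := mem_weakAss_iff.mp hp
  obtain ⟨s, hs, hn⟩ := h2 f hf
  have h0 := Nat.find_spec hn
  have hne : Nat.find hn ≠ 0 := fun h => hs (h1 s (by simpa [h] using h0))
  refine ⟨(s * f ^ (Nat.find hn - 1)) • m, Nat.find_min hn (by omega), ?_⟩
  rw [smul_smul, show f * (s * f ^ (Nat.find hn - 1)) = s * f ^ (Nat.find hn - 1 + 1) by ring,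
    Nat.sub_add_cancel (by omega)]
  exact h0

theorem notMem_of_isSMulRegular {p : Ideal R} (hp : p ∈ FlatCA.weakAss R M) {f : R}
    (hf : IsSMulRegular M f) : f ∉ p := fun h => by
  obtain ⟨y, hy, hfy⟩ := exists_smul_eq_zero_of_mem hp h
  exact hy (hf (by simpa using hfy))

theorem notMem_of_isSMulRegular_of_mem_ass {p : Ideal R} (hp : p ∈ FlatCA.ass R M) {f : R}
    (hf : IsSMulRegular M f) : f ∉ p := fun h => by
  obtain ⟨hp', m, hm⟩ := mem_ass_iff.mp hp
  exact hp'.ne_top (p.eq_top_iff_one.mpr ((hm 1).mpr (by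
    rw [one_smul]; exact hf (by simpa using (hm f).mp h))))

theorem ass_subset_weakAss : FlatCA.ass R M ⊆ FlatCA.weakAss R M := by
  intro p hp
  obtain ⟨hp', m, hm⟩ := mem_ass_iff.mp hp
  exact mem_weakAss_iff.mpr ⟨hp', m, fun r hr => (hm r).mpr hr, fun a ha =>
    ⟨1, hp'.one_notMem, 1, by simpa using (hm a).mp ha⟩⟩

theorem mem_ass_of_fg {p : Ideal R} (hfg : p.FG) (hp : p ∈ FlatCA.weakAss R M) :
    p ∈ FlatCA.ass R M := by
  classical
  obtain ⟨hp', m, hm⟩ := mem_weakAss_iff.mp hp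
  have key : ∀ t : Finset R, (∀ a ∈ t, a ∈ p) → ∃ y : M, IsWit p y ∧ ∀ a ∈ t, ∃ s ∉ p, (s * a) • y = 0 := by
    intro t
    induction t using Finset.induction_on with
    | empty => exact fun _ => ⟨m, hm, by simp⟩
    | @insert a t _ ih =>
      intro ht
      obtain ⟨y, ⟨hy1, hy2⟩, hyt⟩ := ih fun b hb => ht b (Finset.mem_insert_of_mem hb)
      have hex : ∃ n : ℕ, ∃ s ∉ p, (s * a ^ n) • y = 0 := by
        obtain ⟨s, hs, n, hn⟩ := hy2 a (ht a (Finset.mem_insert_self a t))
        exact ⟨n, s, hs, hn⟩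
      obtain ⟨s, hs, hsy⟩ := Nat.find_spec hex
      have hne : Nat.find hex ≠ 0 := fun h => hs (hy1 s (by simpa [h] using hsy))
      refine ⟨a ^ (Nat.find hex - 1) • y, ⟨fun r hr => ?_, fun b hb => ?_⟩, fun b hb => ?_⟩
      · by_contra hrp
        exact Nat.find_min hex (show Nat.find hex - 1 < Nat.find hex by omega) ⟨r, hrp, by rw [mul_smul]; exact hr⟩
      · obtain ⟨t', ht', n, hn⟩ := hy2 b hb
        exact ⟨t', ht', n, by rw [smul_comm, hn, smul_zero]⟩
      · rcases Finset.mem_insert.mp hb with rfl | hb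
        · refine ⟨s, hs, ?_⟩
          rw [smul_smul, mul_assoc, ← pow_succ', Nat.sub_add_cancel (by omega)]
          exact hsy
        · obtain ⟨t', ht', hn⟩ := hyt b hb
          exact ⟨t', ht', by rw [smul_comm, hn, smul_zero]⟩
  obtain ⟨g, hg⟩ := hfg
  obtain ⟨y, hy, hyg⟩ := key g fun a ha => hg ▸ Ideal.subset_span ha
  choose s hs hsa using hyg
  let S := ∏ a ∈ g.attach, s a.1 a.2
  have hS : S ∉ p := fun h => by
    obtain ⟨a, _, ha⟩ := hp'.prod_mem_iff.mp h
    exact hs a.1 a.2 ha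
  refine mem_ass_iff.mpr ⟨hp', S • y, fun r => ⟨fun hr => ?_, fun hr => ?_⟩⟩
  · have hle : p ≤ (Submodule.span R {S • y}).annihilator := by
      rw [← hg, Submodule.span_le]
      intro a ha
      refine (Submodule.mem_annihilator_span_singleton _ _).mpr ?_
      obtain ⟨c, hc⟩ := Finset.dvd_prod_of_mem (fun a : g => s a.1 a.2) (Finset.mem_attach g ⟨a, ha⟩)
      rw [smul_smul, show a * S = c * (s a ha * a) by rw [show S = s a ha * c from hc]; ring,
        mul_smul, hsa, smul_zero]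
    exact (Submodule.mem_annihilator_span_singleton _ _).mp (hle hr)
  · exact (hp'.mem_or_mem (hy.1 (r * S) (by rw [mul_smul]; exact hr))).resolve_right hS

theorem weakAss_mono {M' : Type w} [AddCommGroup M'] [Module R M'] (f : M →ₗ[R] M')
    (hf : Function.Injective f) : FlatCA.weakAss R M ⊆ FlatCA.weakAss R M' := by
  intro p hp
  obtain ⟨hp', m, h1, h2⟩ := mem_weakAss_iff.mp hp
  refine mem_weakAss_iff.mpr ⟨hp', f m, fun r hr => h1 r (hf (by rw [map_smul, hr, map_zero])), fun a ha => ?_⟩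
  obtain ⟨s, hs, n, hn⟩ := h2 a ha
  exact ⟨s, hs, n, by rw [← map_smul, hn, map_zero]⟩

section Algebra

variable {A : Type w} [CommRing A] [Algebra R A] [Module A M] [IsScalarTower R A M]

theorem comap_mem_ass {q : Ideal A} (hq : q ∈ FlatCA.ass A M) :
    q.comap (algebraMap R A) ∈ FlatCA.ass R M := by
  obtain ⟨hq', m, hm⟩ := mem_ass_iff.mp hq
  exact mem_ass_iff.mpr ⟨hq'.comap _, m, fun r => by rw [Ideal.mem_comap, hm, algebraMap_smul]⟩

variable (S : Submonoid R) [IsLocalization S A]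

include S in
theorem eq_map_of_disjoint {p : Ideal R} [p.IsPrime] (h : Disjoint (S : Set R) (p : Set R)) :
    (p.map (algebraMap R A)).IsPrime ∧ (p.map (algebraMap R A)).comap (algebraMap R A) = p :=
  ⟨IsLocalization.isPrime_of_isPrime_disjoint S A p ‹_› h, IsLocalization.under_map_of_isPrime_disjoint S A ‹_› h⟩

include A S in
theorem disjoint_of_mem_weakAss {p : Ideal R} (hp : p ∈ FlatCA.weakAss R M) :
    Disjoint (S : Set R) (p : Set R) :=
  Set.disjoint_left.mpr fun s hs hsp => notMem_of_isSMulRegular hp (f := s) (fun x y hxy => by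
    have hu : IsUnit (algebraMap R A s) := IsLocalization.map_units A ⟨s, hs⟩
    have hxy' : algebraMap R A s • x = algebraMap R A s • y := by
      rw [algebraMap_smul, algebraMap_smul]; exact hxy
    exact hu.smul_left_cancel.mp hxy') hsp

include S in
theorem weakAss_localization :
    FlatCA.weakAss R M = Ideal.comap (algebraMap R A) '' FlatCA.weakAss A M := by
  ext p
  constructor
  · intro hp
    obtain ⟨hp', m, h1, h2⟩ := mem_weakAss_iff.mp hp
    obtain ⟨hP, hcm⟩ := eq_map_of_disjoint (A := A) S (disjoint_of_mem_weakAss (A := A) S hp)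
    refine ⟨p.map (algebraMap R A), mem_weakAss_iff.mpr ⟨hP, m, fun r hr => ?_, fun a ha => ?_⟩, hcm⟩
    · obtain ⟨⟨r₀, s₀⟩, hrs⟩ := IsLocalization.surj S r
      have h0 : r₀ • m = 0 := by rw [← algebraMap_smul A, ← hrs, mul_comm, mul_smul, hr, smul_zero]
      refine (hP.mem_or_mem (hrs ▸ Ideal.mem_map_of_mem _ (h1 r₀ h0))).resolve_right fun h => ?_
      exact hP.ne_top (Ideal.eq_top_of_isUnit_mem _ h (IsLocalization.map_units A s₀))
    · obtain ⟨⟨a₀, s₀⟩, has⟩ := IsLocalization.surj S a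
      have ha₀ : a₀ ∈ p := by rw [← hcm, Ideal.mem_comap, ← has]; exact Ideal.mul_mem_right _ _ ha
      obtain ⟨t, ht, n, hn⟩ := h2 a₀ ha₀
      refine ⟨algebraMap R A t, fun h => ht (hcm ▸ h), n, ?_⟩
      rw [← algebraMap_smul A, map_mul, map_pow, ← has, mul_pow, ← mul_assoc, mul_comm, mul_smul] at hn
      exact ((IsLocalization.map_units A s₀).pow n).smul_eq_zero.mp hn
  · rintro ⟨q, hq, rfl⟩
    obtain ⟨hq', m, h1, h2⟩ := mem_weakAss_iff.mp hq
    refine mem_weakAss_iff.mpr ⟨hq'.comap _, m, fun r hr => h1 _ (by rw [algebraMap_smul, hr]), fun a ha => ?_⟩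
    obtain ⟨s, hs, n, hn⟩ := h2 _ ha
    obtain ⟨⟨s₀, t₀⟩, hst⟩ := IsLocalization.surj S s
    refine ⟨s₀, fun h => ?_, n, ?_⟩
    · rw [Ideal.mem_comap, ← hst] at h
      rcases hq'.mem_or_mem h with h | h
      · exact hs h
      · exact hq'.ne_top (Ideal.eq_top_of_isUnit_mem _ h (IsLocalization.map_units A t₀))
    · rw [← algebraMap_smul A, map_mul, map_pow, ← hst, mul_right_comm, mul_comm, mul_smul, hn, smul_zero]

include S in
theorem ass_localization :
    FlatCA.ass R M = Ideal.comap (algebraMap R A) '' FlatCA.ass A M := by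
  refine subset_antisymm (fun p hp => ?_) (by rintro - ⟨q, hq, rfl⟩; exact comap_mem_ass hq)
  obtain ⟨hp', m, hm⟩ := mem_ass_iff.mp hp
  obtain ⟨hP, hcm⟩ := eq_map_of_disjoint (A := A) S
    (disjoint_of_mem_weakAss (A := A) S (ass_subset_weakAss hp))
  refine ⟨p.map (algebraMap R A), mem_ass_iff.mpr ⟨hP, m, fun r => ?_⟩, hcm⟩
  obtain ⟨⟨r₀, s₀⟩, hrs⟩ := IsLocalization.surj S r
  have e : r₀ ∈ p ↔ r ∈ p.map (algebraMap R A) := by
    conv_lhs => rw [← hcm, Ideal.mem_comap, ← hrs]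
    exact ⟨fun h => (hP.mem_or_mem h).resolve_right fun h' =>
      hP.ne_top (Ideal.eq_top_of_isUnit_mem _ h' (IsLocalization.map_units A s₀)),
      fun h => Ideal.mul_mem_right _ _ h⟩
  rw [← e, hm, ← algebraMap_smul A, ← hrs, mul_comm, mul_smul]
  exact (IsLocalization.map_units A s₀).smul_eq_zero

end Algebra

section Localized

variable {M' : Type w} [AddCommGroup M'] [Module R M'] (S : Submonoid R) (f : M →ₗ[R] M')
  [IsLocalizedModule S f]

include S f in
theorem mem_weakAss_localized_iff {p : Ideal R} [p.IsPrime] (hd : Disjoint (S : Set R) (p : Set R)) :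
    p ∈ FlatCA.weakAss R M' ↔ p ∈ FlatCA.weakAss R M := by
  have hS : ∀ s : S, (s : R) ∉ p := fun s => Set.disjoint_left.mp hd s.2
  constructor
  · intro hp
    obtain ⟨hp', x, h1, h2⟩ := mem_weakAss_iff.mp hp
    obtain ⟨⟨m, s⟩, hms⟩ := IsLocalizedModule.surj S f x
    refine mem_weakAss_iff.mpr ⟨hp', m, fun r hr => ?_, fun a ha => ?_⟩
    · refine (hp'.mem_or_mem (h1 (r * s) ?_)).resolve_right (hS s)
      rw [mul_smul, show (s : R) • x = f m from hms, ← map_smul, hr, map_zero]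
    · obtain ⟨t, ht, n, hn⟩ := h2 a ha
      have h0 : f ((t * a ^ n) • m) = f 0 := by
        rw [map_smul, ← hms, Submonoid.smul_def, smul_comm, hn, smul_zero, map_zero]
      obtain ⟨c, hc⟩ := (IsLocalizedModule.eq_iff_exists S f).mp h0
      exact ⟨c * t, fun h => (hp'.mem_or_mem h).elim (hS c) ht, n, by
        rw [mul_assoc, mul_smul]; simpa [Submonoid.smul_def] using hc⟩
  · intro hp
    obtain ⟨hp', m, h1, h2⟩ := mem_weakAss_iff.mp hp
    refine mem_weakAss_iff.mpr ⟨hp', f m, fun r hr => ?_, fun a ha => ?_⟩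
    · have h0 : f (r • m) = f 0 := by rw [map_smul, hr, map_zero]
      obtain ⟨c, hc⟩ := (IsLocalizedModule.eq_iff_exists S f).mp h0
      refine (hp'.mem_or_mem (h1 (c * r) ?_)).resolve_left (hS c)
      rw [mul_smul]; simpa [Submonoid.smul_def] using hc
    · obtain ⟨t, ht, n, hn⟩ := h2 a ha
      exact ⟨t, ht, n, by rw [← map_smul, hn, map_zero]⟩

include S f in
theorem mem_ass_localized {p : Ideal R} (hp : p ∈ FlatCA.ass R M) (hd : Disjoint (S : Set R) (p : Set R)) :
    p ∈ FlatCA.ass R M' := by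
  obtain ⟨hp', m, hm⟩ := mem_ass_iff.mp hp
  refine mem_ass_iff.mpr ⟨hp', f m, fun r => ⟨fun hr => by rw [← map_smul, (hm r).mp hr, map_zero], fun hr => ?_⟩⟩
  have h0 : f (r • m) = f 0 := by rw [map_smul, hr, map_zero]
  obtain ⟨c, hc⟩ := (IsLocalizedModule.eq_iff_exists S f).mp h0
  refine (hp'.mem_or_mem ((hm (c * r)).mpr ?_)).resolve_left (Set.disjoint_left.mp hd c.2)
  rw [mul_smul]; simpa [Submonoid.smul_def] using hc

include S f in
theorem weakAss_eq_of_regular (hS : ∀ s ∈ S, IsSMulRegular M s) :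
    FlatCA.weakAss R M = FlatCA.weakAss R M' := by
  have hS' : ∀ s ∈ S, IsSMulRegular M' s := fun s hs =>
    ((Module.End.isUnit_iff _).mp (IsLocalizedModule.map_units f ⟨s, hs⟩)).1
  ext p
  constructor
  · intro hp
    have := (mem_weakAss_iff.mp hp).1
    exact (mem_weakAss_localized_iff S f
      (Set.disjoint_left.mpr fun s hs => notMem_of_isSMulRegular hp (hS s hs))).mpr hp
  · intro hp
    have := (mem_weakAss_iff.mp hp).1
    exact (mem_weakAss_localized_iff S f
      (Set.disjoint_left.mpr fun s hs => notMem_of_isSMulRegular hp (hS' s hs))).mp hp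

include S f in
theorem ass_eq_of_regular (hS : ∀ s ∈ S, IsSMulRegular M s) :
    FlatCA.ass R M = FlatCA.ass R M' := by
  ext p
  constructor
  · intro hp
    exact mem_ass_localized S f hp
      (Set.disjoint_left.mpr fun s hs => notMem_of_isSMulRegular_of_mem_ass hp (hS s hs))
  · intro hp
    obtain ⟨hp', x, hx⟩ := mem_ass_iff.mp hp
    obtain ⟨⟨m, s⟩, hms⟩ := IsLocalizedModule.surj S f x
    have hinj : Function.Injective f := fun a b hab => by
      obtain ⟨c, hc⟩ := (IsLocalizedModule.eq_iff_exists S f).mp hab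
      exact hS c c.2 hc
    have hreg : IsSMulRegular M' (s : R) := ((Module.End.isUnit_iff _).mp (IsLocalizedModule.map_units f s)).1
    refine mem_ass_iff.mpr ⟨hp', m, fun r => ⟨fun hr => hinj ?_, fun hr => (hx r).mpr (hreg ?_)⟩⟩
    · rw [map_smul, ← hms, Submonoid.smul_def, smul_comm, (hx r).mp hr, smul_zero, map_zero]
    · show (s : R) • r • x = (s : R) • 0
      rw [smul_zero, smul_comm, show (s : R) • x = f m from hms, ← map_smul, hr, map_zero]

end Localized

end Groth.Agent.WeakAss
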